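import Cfsg.Agent.Lib.Helper58.G2Syl.Defs

set_option autoImplicit false

namespace Cfsg.Agent.Lib.Helper91.G2Syl

open Cfsg Cfsg.Lie Cfsg.Agent.Lib.Helper58.WrSyl Cfsg.Agent.Lib.Helper58.G2Syl
open scoped MatrixGroups
open Matrix.GeneralLinearGroup (scalar det)

theorem theta_mul {F : Type*} [Field F] (x y : Fin 8 → F) :
    thX (zornMul x y) = thX x * thX y - (thY y).adjugate * thY x ∧
      thY (zornMul x y) = thY y * thX x + thY x * (thX y).adjugate := by
  constructor <;> ext i j <;> fin_cases i <;> fin_cases j <;>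
    simp [thX, thY, zornMul, dot3, cross3, Matrix.mul_apply, Fin.sum_univ_two,
      Matrix.adjugate_fin_two] <;> ring

end Cfsg.Agent.Lib.Helper91.G2Syl
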